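import Groth.Agent.NormalLib.Serre
import Groth.Agent.LiaisonLib.Basic
import Groth.Agent.SkEmbLib.Main
import Mathlib

/-! # Homogeneous localisations: Noetherianity and embedded primes -/

set_option autoImplicit false

universe u

open HomogeneousLocalization CommAlgDim

namespace ProjSerreLib

variable {A : Type u} [CommRing A] (𝒜 : ℕ → AddSubgroup A) [GradedRing 𝒜]

/-- Homogeneous localisations are determined by their fractions. -/
theorem mk_eq_zero_iff {x : Submonoid A} (c : NumDenSameDeg 𝒜 x) :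
    HomogeneousLocalization.mk c = (0 : HomogeneousLocalization 𝒜 x) → ∃ w ∈ x, w * (c.num : A) = 0 := by
  intro h
  have h1 := congrArg HomogeneousLocalization.val h
  rw [HomogeneousLocalization.val_mk, HomogeneousLocalization.val_zero, Localization.mk_eq_mk',
    IsLocalization.mk'_eq_zero_iff] at h1
  obtain ⟨w, hw⟩ := h1
  exact ⟨w, w.2, hw⟩

/-- A homogeneous localisation of a Noetherian graded ring is Noetherian. -/
theorem isNoetherianRing [IsNoetherianRing A] (x : Submonoid A) :
    IsNoetherianRing (HomogeneousLocalization 𝒜 x) := by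
  classical
  let J : Ideal (HomogeneousLocalization 𝒜 x) → Ideal A := fun I =>
    Ideal.span (HomogeneousLocalization.num '' (I : Set (HomogeneousLocalization 𝒜 x)))
  have key : ∀ I g, g.num ∈ J I → g ∈ I := by
    intro I g hg
    obtain ⟨n, a, b, hab⟩ := Submodule.mem_span_set'.1 hg
    choose f hf hfb using fun i => (b i).2
    let c : Fin n → HomogeneousLocalization 𝒜 x := fun i =>
      if h : (f i).deg ≤ g.deg then
        HomogeneousLocalization.mk ⟨g.deg,
          ⟨(DirectSum.decompose 𝒜 (a i) (g.deg - (f i).deg) : A) * (f i).den, by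
            have := SetLike.mul_mem_graded (DirectSum.decompose 𝒜 (a i) (g.deg - (f i).deg)).2 (f i).den_mem_deg
            rwa [Nat.sub_add_cancel h] at this⟩,
          ⟨g.den, g.den_mem_deg⟩, g.den_mem⟩
      else 0
    have hg' : g = ∑ i, c i * f i := by
      apply HomogeneousLocalization.val_injective
      rw [g.eq_num_div_den, show (∑ i, c i * f i).val =
        ∑ i, (c i * f i).val from map_sum (algebraMap (HomogeneousLocalization 𝒜 x) (Localization x)) _ _]
      have hdec : g.num = ∑ i, (DirectSum.decompose 𝒜 (a i * (f i).num) g.deg : A) := by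
        conv_lhs => rw [← DirectSum.decompose_of_mem_same 𝒜 g.num_mem_deg, ← hab]
        rw [DirectSum.decompose_sum, DFinsupp.finsetSum_apply, AddSubgroup.val_finsetSum]
        refine Finset.sum_congr rfl fun i _ => ?_
        rw [smul_eq_mul, ← hfb i]
      rw [hdec, Localization.mk_sum]
      refine Finset.sum_congr rfl fun i _ => ?_
      rw [val_mul]
      simp only [c]
      split_ifs with h
      · rw [DirectSum.coe_decompose_mul_of_right_mem_of_le 𝒜 (f i).num_mem_deg h, val_mk, (f i).eq_num_div_den,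
          Localization.mk_mul, Localization.mk_eq_mk_iff, Localization.r_iff_exists]
        refine ⟨1, ?_⟩
        simp only [OneMemClass.coe_one, one_mul, Submonoid.coe_mul]
        ring
      · rw [DirectSum.coe_decompose_mul_of_right_mem_of_not_le 𝒜 (f i).num_mem_deg h, val_zero, zero_mul,
          Localization.mk_zero]
    rw [hg']
    exact I.sum_mem fun i _ => I.mul_mem_left _ (hf i)
  have hmono : StrictMono J := fun I I' h => by
    refine lt_of_le_of_ne (Ideal.span_mono (Set.image_mono h.le)) fun he => h.ne (le_antisymm h.le fun g hg => ?_)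
    exact key I g (he ▸ Ideal.subset_span ⟨g, hg, rfl⟩)
  rw [isNoetherianRing_iff, isNoetherian_iff']
  exact hmono.wellFoundedGT

/-- Homogeneous components of an annihilator of a homogeneous element. -/
theorem decompose_mul_eq_zero {w z : A} {m : ℕ} (hz : z ∈ 𝒜 m) (h : w * z = 0) (k : ℕ) :
    (DirectSum.decompose 𝒜 w k : A) * z = 0 := by
  rw [← DirectSum.coe_decompose_mul_add_of_right_mem 𝒜 hz, h]
  simp

/-- An element outside an ideal has a homogeneous component outside it. -/
theorem exists_decompose_notMem {I : Ideal A} {w : A} (h : w ∉ I) :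
    ∃ k, (DirectSum.decompose 𝒜 w k : A) ∉ I := by
  classical
  by_contra! hc
  exact h (DirectSum.sum_support_decompose 𝒜 w ▸ I.sum_mem fun k _ => hc k)

/-- If a Noetherian graded ring has no embedded primes, neither has the degree zero part of its localisation
at a prime not containing the whole irrelevant ideal. -/
theorem mem_minimalPrimes [IsNoetherianRing A] (hA : associatedPrimes A A ⊆ minimalPrimes A)
    (p : Ideal A) [p.IsPrime] {d : ℕ} (hd : 0 < d) {t : A} (htd : t ∈ 𝒜 d) (htp : t ∉ p)
    (q : Ideal (AtPrime 𝒜 p)) (hq : q ∈ associatedPrimes (AtPrime 𝒜 p) (AtPrime 𝒜 p)) :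
    q ∈ minimalPrimes (AtPrime 𝒜 p) := by
  classical
  haveI := isNoetherianRing 𝒜 p.primeCompl
  haveI := hq.1
  obtain ⟨-, a, ha⟩ := isAssociatedPrime_iff.1 (AssociatedPrimes.mem_iff.1 hq)
  obtain ⟨ca, rfl⟩ := HomogeneousLocalization.mk_surjective a
  have hann : ∀ y, y ∈ q ↔ y * HomogeneousLocalization.mk ca = 0 := fun y => by
    rw [ha, Submodule.mem_colon_singleton, Submodule.mem_bot, smul_eq_mul]
  let bar : ∀ (e : ℕ) (z : A), z ∈ 𝒜 e → AtPrime 𝒜 p := fun e z hz => HomogeneousLocalization.mk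
    ⟨d * e, ⟨z ^ d, by simpa using SetLike.pow_mem_graded d hz⟩,
      ⟨t ^ e, by simpa [mul_comm] using SetLike.pow_mem_graded e htd⟩, Submonoid.pow_mem _ htp _⟩
  have bar_val : ∀ e z hz, (bar e z hz).val = Localization.mk (z ^ d) ⟨t ^ e, Submonoid.pow_mem _ htp _⟩ :=
    fun _ _ _ => rfl
  let S : Submonoid A :=
    { carrier := {z | ∃ e, ∃ hz : z ∈ 𝒜 e, bar e z hz ∉ q}
      one_mem' := ⟨0, SetLike.one_mem_graded 𝒜, fun h => ‹q.IsPrime›.ne_top ((Ideal.eq_top_iff_one q).2 (by
        convert! h using 1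
        exact HomogeneousLocalization.val_injective _ (by simp [bar_val, Localization.mk_one])))⟩
      mul_mem' := by
        rintro u v ⟨e, hu, hu'⟩ ⟨e', hv, hv'⟩
        refine ⟨e + e', SetLike.mul_mem_graded hu hv, fun h => ?_⟩
        refine (‹q.IsPrime›.mem_or_mem (?_ : bar e u hu * bar e' v hv ∈ q)).elim hu' hv'
        convert! h using 1
        apply HomogeneousLocalization.val_injective
        simp only [val_mul, bar_val, Localization.mk_mul]
        congr 1
        · ring
        · exact Subtype.ext (pow_add t e e').symm }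
  let J : Ideal A := LinearMap.ker (LinearMap.toSpanSingleton A A (ca.num : A))
  have hmem : ∀ z, z ∈ J ↔ z * (ca.num : A) = 0 := fun z => Iff.rfl
  have hdis : Disjoint (J : Set A) (S : Set A) := by
    refine Set.disjoint_left.2 fun z hzJ ⟨e, hz, hzq⟩ => hzq ((hann _).2 ?_)
    apply HomogeneousLocalization.val_injective
    simp only [val_mul, bar_val, val_mk, Localization.mk_mul, val_zero]
    obtain ⟨d', rfl⟩ : ∃ d', d = d' + 1 := ⟨d - 1, by omega⟩
    rw [pow_succ, mul_assoc, (hmem z).1 hzJ, mul_zero, Localization.mk_zero]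
  obtain ⟨P₀, hP₀, hJP₀, hP₀S⟩ := Ideal.exists_le_prime_disjoint J S hdis
  haveI := hP₀
  obtain ⟨P, hP, hPP₀⟩ := Ideal.exists_minimalPrimes_le hJP₀
  haveI := hP.1.1
  have hPS : ∀ z ∈ P, z ∉ S := fun z hz => Set.disjoint_left.1 hP₀S (hPP₀ hz)
  have hPmin : P ∈ minimalPrimes A := hA (associatedPrimes.subset_of_injective (f := J.liftQ _ le_rfl)
    (LinearMap.ker_eq_bot.1 (Submodule.ker_liftQ_eq_bot _ _ le_rfl le_rfl)) (LiaisonLib.mem_associatedPrimes_of_minimal hP))
  have hK : ∀ e z hz, bar e z hz ∈ q → z ∈ P := by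
    intro e z hz hzq
    have h0 := (hann _).1 hzq
    rw [show bar e z hz * HomogeneousLocalization.mk ca = HomogeneousLocalization.mk (⟨d * e, ⟨z ^ d, _⟩, ⟨t ^ e, _⟩, _⟩ * ca)
      from rfl] at h0
    obtain ⟨w, hw, hw0⟩ := mk_eq_zero_iff 𝒜 _ h0
    rw [NumDenSameDeg.num_mul] at hw0
    obtain ⟨k, hk⟩ := exists_decompose_notMem 𝒜 (I := p) hw
    have h1 := decompose_mul_eq_zero 𝒜 (SetLike.mul_mem_graded (by simpa using SetLike.pow_mem_graded d hz) ca.num.2) hw0 k
    have h2 : (DirectSum.decompose 𝒜 w k : A) * z ^ d ∈ P := hP.1.2 ((hmem _).2 (by rw [mul_assoc]; exact h1))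
    refine (hP.1.1.mem_or_mem h2).elim (fun h3 => ?_) fun h3 => hP.1.1.mem_of_pow_mem d h3
    refine absurd ⟨k, (DirectSum.decompose 𝒜 w k).2, fun hq' => ?_⟩ (hPS _ h3)
    refine ‹q.IsPrime›.ne_top (Ideal.eq_top_of_isUnit_mem q hq' ?_)
    rw [← isUnit_iff_isUnit_val]; simp only [bar_val]; rw [Localization.mk_eq_mk', IsLocalization.AtPrime.isUnit_mk'_iff _ p]
    exact Submonoid.pow_mem _ hk _
  refine ⟨⟨‹q.IsPrime›, bot_le⟩, fun q' hq' hle x hx => ?_⟩
  haveI := hq'.1
  obtain ⟨cx, rfl⟩ := HomogeneousLocalization.mk_surjective x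
  have hX : (cx.num : A) ∈ P := by
    refine hK cx.deg _ cx.num.2 ?_
    have h1 : bar cx.deg (cx.num : A) cx.num.2 = HomogeneousLocalization.mk cx ^ d * bar cx.deg (cx.den : A) cx.den.2 := by
      apply HomogeneousLocalization.val_injective
      simp only [val_mul, val_pow, bar_val, val_mk, Localization.mk_pow, Localization.mk_mul,
        Localization.mk_eq_mk_iff, Localization.r_iff_exists]
      exact ⟨1, by simp only [OneMemClass.coe_one, one_mul, Submonoid.coe_mul, SubmonoidClass.coe_pow]; ring⟩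
    rw [h1]
    exact q.mul_mem_right _ (q.pow_mem_of_mem hx d hd)
  obtain ⟨s, hs, n, hsn⟩ : ∃ s ∉ P, ∃ n, s * (cx.num : A) ^ n = 0 := by
    by_contra! hc
    have hd' : Disjoint ((⊥ : Ideal A) : Set A) ((P.primeCompl ⊔ Submonoid.powers (cx.num : A) : Submonoid A) : Set A) := by
      refine Set.disjoint_left.2 fun z hz hz' => ?_
      obtain ⟨u, hu, _, ⟨n, rfl⟩, rfl⟩ := Submonoid.mem_sup.1 hz'
      exact hc u hu n hz
    obtain ⟨Q, hQ, -, hQd⟩ := Ideal.exists_le_prime_disjoint _ _ hd'
    have hQP : Q ≤ P := fun z hz => by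
      by_contra hzP
      exact Set.disjoint_left.1 hQd hz (Submonoid.mem_sup_left hzP)
    exact Set.disjoint_left.1 hQd (hPmin.2 ⟨hQ, bot_le⟩ hQP hX) (Submonoid.mem_sup_right (Submonoid.mem_powers _))
  obtain ⟨k, hk⟩ := exists_decompose_notMem 𝒜 (I := P) hs
  have h1 := decompose_mul_eq_zero 𝒜 (SetLike.pow_mem_graded n cx.num.2) hsn k
  let y := bar k _ (DirectSum.decompose 𝒜 s k).2
  have hy : y ∉ q := fun h => hk (hK k _ (DirectSum.decompose 𝒜 s k).2 h)
  have hyx : y * HomogeneousLocalization.mk cx ^ n = 0 := by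
    apply HomogeneousLocalization.val_injective
    simp only [y, val_mul, val_pow, bar_val, val_mk, Localization.mk_pow, Localization.mk_mul, val_zero]
    obtain ⟨d', rfl⟩ : ∃ d', d = d' + 1 := ⟨d - 1, by omega⟩
    rw [pow_succ, mul_assoc, h1, mul_zero, Localization.mk_zero]
  exact hq'.1.mem_of_pow_mem n ((hq'.1.mem_or_mem (hyx ▸ q'.zero_mem)).resolve_left fun h => hy (hle h))

/-- Absence of embedded primes gives `(S_1)`. -/
theorem hasSk_one (R : Type u) [CommRing R] [IsNoetherianRing R]
    (h : associatedPrimes R R ⊆ minimalPrimes R) : LocCoh.HasSk 1 R R := fun p hp => by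
  rw [SMTLib.supportDim_localized_self]
  by_cases h0 : p.height = 0
  · refine (min_le_right _ _).trans ?_
    rw [h0]
    exact WithBot.coe_le_coe.2 zero_le
  refine (min_le_left _ _).trans ?_
  rw [← WithBot.coe_natCast, WithBot.coe_le_coe, le_depth_iff]
  refine HasSeqIn.localization le_rfl ((hasSeqIn_one_iff p).2 fun Q hQ hle => h0 ?_)
  have := hQ.isPrime
  rw [show p = Q from le_antisymm hle ((h hQ).2 ⟨hp, bot_le⟩ hle), Ideal.height_eq_zero_iff]
  exact h hQ

end ProjSerreLib
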